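import Cfsg.Agent.Signalizer.Bender
import Cfsg.Agent.LocalEven48.Basic
import Cfsg.Prelude.Def_EvenTechniques

/-!
# Bender's method: a pair of maximal subgroups `M`, `N` with `M ⇝ N`

The primes of `F(M)` control the Fitting subgroup of `N`.
-/

set_option autoImplicit false
set_option linter.unusedSectionVars false
set_option linter.style.haveILetI false

open Subgroup

namespace CfsgLib.BenderMethod

open CfsgLib.Signalizer

variable {G : Type*} [Group G]

/-- A subgroup containing all elements of prime power order of `L` contains `L`. -/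
theorem le_of_forall_primePower [Finite G] {L C : Subgroup G}
    (h : ∀ r : ℕ, r.Prime → ∀ y ∈ L, (∃ k, y ^ r ^ k = 1) → y ∈ C) : L ≤ C := by
  rw [← relIndex_eq_one]
  by_contra hne
  obtain ⟨r, hr, hd⟩ := Nat.exists_prime_and_dvd hne
  have : Fact r.Prime := ⟨hr⟩
  obtain ⟨R⟩ : Nonempty (Sylow r L) := inferInstance
  have hle : (R : Subgroup L) ≤ C.subgroupOf L := by
    intro y hy
    rw [mem_subgroupOf]
    obtain ⟨k, hk⟩ := R.2 ⟨y, hy⟩
    exact h r hr y y.2 ⟨k, by simpa using congrArg (fun z : (R : Subgroup L) => ((z : L) : G)) hk⟩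
  exact R.not_dvd_index (hd.trans (index_dvd_of_le hle))

/-- The centre of `O_r(M)`, inside `G`. -/
def coreCenter (r : ℕ) (M : Subgroup G) : Subgroup G :=
  Cfsg.pCoreOf r M ⊓ centralizer (Cfsg.pCoreOf r M : Set G)

/-- The layer of a subgroup, inside the ambient group. -/
abbrev layerOf' (M : Subgroup G) : Subgroup G := (Cfsg.layer M).map M.subtype

theorem commute_elem_of_disjoint {X Y : Subgroup G} (hd : Disjoint X Y) {x y : G}
    (h1 : x * y * x⁻¹ * y⁻¹ ∈ X) (h2 : x * y * x⁻¹ * y⁻¹ ∈ Y) : Commute x y := by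
  have h : x * y * x⁻¹ * y⁻¹ = 1 := Subgroup.mem_bot.mp (hd.le_bot ⟨h1, h2⟩)
  show x * y = y * x
  calc x * y = x * y * x⁻¹ * y⁻¹ * (y * x) := by group
    _ = y * x := by rw [h, one_mul]

variable [Finite G]

theorem fstar_eq (M : Subgroup G) :
    (Cfsg.generalizedFittingSubgroup M).map M.subtype = layerOf' M ⊔ fittingOf M :=
  Subgroup.map_sup _ _ _

theorem commute_layerOf_fittingOf (M : Subgroup G) {e x : G} (he : e ∈ layerOf' M)
    (hx : x ∈ fittingOf M) : Commute e x := by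
  obtain ⟨a, ha, rfl⟩ := he
  obtain ⟨b, hb, rfl⟩ := hx
  have h : Commute a b :=
    (mem_centralizer_iff.mp (Components.layer_le_centralizer_fittingSubgroup ha) b hb).symm
  exact h.map M.subtype

/-- The primes of `|F(M)|` are those with `O_r(M) ≠ 1`. -/
theorem dvd_card_fitting_iff (M : Subgroup G) (r : ℕ) [Fact r.Prime] :
    r ∣ Nat.card (Cfsg.fittingSubgroup M) ↔ Cfsg.pCoreOf r M ≠ ⊥ := by
  constructor
  · intro h hbot
    obtain ⟨x, hx⟩ := exists_prime_orderOf_dvd_card' r h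
    have hmem : ((x : M) : G) ∈ Cfsg.pCoreOf r M := by
      refine mem_pCoreOf_of_mem_fittingOf M ⟨x.1, x.2, rfl⟩ (k := 1) ?_
      have h1 : x ^ r = 1 := by rw [← hx]; exact pow_orderOf_eq_one x
      rw [pow_one]
      exact congrArg (fun z : Cfsg.fittingSubgroup M => ((z : M) : G)) h1
    rw [hbot, mem_bot] at hmem
    have : x = 1 := Subtype.ext (Subtype.ext hmem)
    rw [this, orderOf_one] at hx
    exact (Fact.out : r.Prime).ne_one hx.symm
  · intro h
    haveI := nontrivial_iff_ne_bot _ |>.mpr h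
    have h1 : r ∣ Nat.card (Cfsg.pCoreOf r M) := by
      obtain ⟨k, hk0, hk⟩ :=
        (LocalStructure.pCoreOf_isPGroup (p := r) M).nontrivial_iff_card.mp inferInstance
      rw [hk]
      exact dvd_pow_self r hk0.ne'
    have h2 := Subgroup.card_dvd_of_le (pCoreOf_le_fittingOf M r)
    rw [card_map_of_injective M.subtype_injective] at h2
    exact h1.trans h2

theorem coreCenter_ne_bot {M : Subgroup G} {r : ℕ} [Fact r.Prime]
    (h : Cfsg.pCoreOf r M ≠ ⊥) : coreCenter r M ≠ ⊥ := by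
  set P := Cfsg.pCoreOf r M
  haveI := (nontrivial_iff_ne_bot P).mpr h
  haveI := (LocalStructure.pCoreOf_isPGroup (p := r) M : IsPGroup r P).center_nontrivial
  obtain ⟨z, hz⟩ := exists_ne (1 : center P)
  intro hbot
  have hmem : ((z : P) : G) ∈ coreCenter r M :=
    mem_inf.mpr ⟨(z : P).2, mem_centralizer_iff.mpr fun y hy =>
      congrArg Subtype.val (mem_center_iff.mp z.2 ⟨y, hy⟩)⟩
  rw [hbot, mem_bot] at hmem
  exact hz (Subtype.ext (Subtype.ext hmem))

theorem coreCenter_le (M : Subgroup G) (r : ℕ) : coreCenter r M ≤ M :=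
  inf_le_left.trans (LocalStructure.pCoreOf_le M)

theorem conj_mem_coreCenter {M : Subgroup G} {r : ℕ} {g z : G} (hg : g ∈ M)
    (hz : z ∈ coreCenter r M) : g * z * g⁻¹ ∈ coreCenter r M := by
  refine mem_inf.mpr ⟨conj_mem_pCoreOf hg hz.1, mem_centralizer_iff.mpr fun y hy => ?_⟩
  have hy' : g⁻¹ * y * g⁻¹⁻¹ ∈ Cfsg.pCoreOf r M := conj_mem_pCoreOf (inv_mem hg) hy
  have h : Commute (g⁻¹ * y * g⁻¹⁻¹) z := mem_centralizer_iff.mp hz.2 _ hy'
  have h' := h.map (MulAut.conj g).toMonoidHom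
  simp [mul_assoc] at h'
  simpa [Commute, SemiconjBy, mul_assoc] using h'

theorem le_normalizer_coreCenter (M : Subgroup G) (r : ℕ) :
    M ≤ normalizer (coreCenter r M : Set G) := fun g hg => mem_normalizer_iff.mpr fun z =>
  ⟨conj_mem_coreCenter hg, fun h => by
    simpa [mul_assoc] using conj_mem_coreCenter (inv_mem hg) h⟩

/-- An element of the centre of `O_r(M)` centralizes `F(M)`. -/
theorem commute_coreCenter_fittingOf (M : Subgroup G) {r : ℕ} [Fact r.Prime] {z x : G}
    (hz : z ∈ coreCenter r M) (hx : x ∈ fittingOf M) : Commute z x := by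
  have hle : fittingOf M ≤ centralizer {z} := by
    rw [fittingOf_eq_iSup]
    refine iSup_le fun s y hy => mem_centralizer_singleton_iff.mpr ?_
    haveI := Fact.mk s.2
    by_cases hs : (s : ℕ) = r
    · exact mem_centralizer_iff.mp hz.2 y (hs ▸ hy)
    · exact (commute_pCoreOf M hs hy hz.1).eq
  exact (mem_centralizer_singleton_iff.mp (hle hx)).symm

theorem centralizer_coreCenter_le [IsSimpleGroup G] {M : Subgroup G} (hM : IsCoatom M) {r : ℕ}
    [Fact r.Prime] (h : Cfsg.pCoreOf r M ≠ ⊥) : centralizer (coreCenter r M : Set G) ≤ M :=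
  (centralizer_le_normalizer _).trans (normalizer_le_of_coatom hM (coreCenter_le M r)
    (le_normalizer_coreCenter M r) (coreCenter_ne_bot h))

variable {M N : Subgroup G}

/-- What `M ⇝ N` puts into `N`. -/
theorem leadsTo_facts (h : Cfsg.leadsTo M N) :
    layerOf' M ≤ N ∧ (∀ r : ℕ, r.Prime → coreCenter r M ≤ N) ∧
      (∃ r : ℕ, r.Prime ∧ Cfsg.pCoreOf r M ≠ ⊥) ∧
      ∀ r : ℕ, r.Prime → ∀ y ∈ Cfsg.pCoreOf r M,
        (∀ a ∈ Cfsg.pCoreOf r M ⊓ N, Commute a y) → y ∈ N := by
  obtain ⟨Q, hQ1, hQF, hQN⟩ := h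
  have hQn : Q ≤ N := fun x hx =>
    hQN (mem_inf.mpr ⟨map_mono le_sup_right (hQF hx), le_normalizer hx⟩)
  have hcent : ∀ y ∈ (Cfsg.generalizedFittingSubgroup M).map M.subtype,
      y ∈ centralizer (Q : Set G) → y ∈ N := fun y hy hc =>
    hQN (mem_inf.mpr ⟨hy, centralizer_le_normalizer _ hc⟩)
  refine ⟨fun e he => hcent e (map_mono le_sup_left he) (mem_centralizer_iff.mpr fun x hx =>
      (commute_layerOf_fittingOf M he (hQF hx)).eq.symm), fun r hr z hz => ?_, ?_,
    fun r hr y hy hA => ?_⟩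
  · haveI := Fact.mk hr
    exact hcent z (map_mono le_sup_right (pCoreOf_le_fittingOf M r hz.1))
      (mem_centralizer_iff.mpr fun x hx => (commute_coreCenter_fittingOf M hz (hQF hx)).eq.symm)
  · have hne : fittingOf M ≠ ⊥ := fun h => hQ1 (le_bot_iff.mp (h ▸ hQF))
    rw [fittingOf_eq_iSup] at hne
    obtain ⟨r, hr⟩ : ∃ r : Nat.Primes, Cfsg.pCoreOf (r : ℕ) M ≠ ⊥ := by
      by_contra h
      simp only [not_exists, not_not] at h
      exact hne (le_bot_iff.mp (iSup_le fun r => (h r).le))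
    exact ⟨r, r.2, hr⟩
  · haveI := Fact.mk hr
    refine hcent y (map_mono le_sup_right (pCoreOf_le_fittingOf M r hy)) ?_
    have hle : Q ≤ centralizer {y} := by
      refine le_of_forall_primePower fun s hs w hw hwk => mem_centralizer_singleton_iff.mpr ?_
      obtain ⟨k, hk⟩ := hwk
      haveI := Fact.mk hs
      have hw' := mem_pCoreOf_of_mem_fittingOf M (hQF hw) hk
      by_cases hsr : s = r
      · subst hsr
        exact (hA w (mem_inf.mpr ⟨hw', hQn hw⟩)).eq
      · exact (commute_pCoreOf M hsr hw' hy).eq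
    exact mem_centralizer_iff.mpr fun x hx => mem_centralizer_singleton_iff.mp (hle hx)

variable [IsSimpleGroup G]

/-- For `q` outside the primes of `F(M)`, `O_q(N)` meets `M` trivially. -/
theorem pCoreOf_inf_eq_bot (h : Cfsg.leadsTo M N) {q : ℕ} [Fact q.Prime]
    (hq : Cfsg.pCoreOf q M = ⊥) : Cfsg.pCoreOf q N ⊓ M = ⊥ := by
  obtain ⟨hEN, -, -, hfix⟩ := leadsTo_facts h
  refine eq_bot_iff.mpr fun x hx => ?_
  obtain ⟨hxR, hxM⟩ := mem_inf.mp hx
  have hxN : x ∈ N := LocalStructure.pCoreOf_le N hxR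
  have hX : IsPGroup q (Cfsg.pCoreOf q N ⊓ M : Subgroup G) :=
    (LocalStructure.pCoreOf_isPGroup N).to_le inf_le_left
  obtain ⟨k, hk⟩ := hX ⟨x, hx⟩
  have hk' : x ^ q ^ k = 1 := by simpa using congrArg Subtype.val hk
  -- `x` centralizes every `O_r(M)`
  have hF : ∀ r : Nat.Primes, ∀ y ∈ Cfsg.pCoreOf (r : ℕ) M, Commute y x := by
    intro r y hy
    haveI := Fact.mk r.2
    rcases eq_or_ne (r : ℕ) q with hr | hr
    · rw [hr, hq, mem_bot] at hy
      rw [hy]
      exact Commute.one_left x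
    have hco : (orderOf x).Coprime (r : ℕ) :=
      Nat.Coprime.coprime_dvd_left (orderOf_dvd_of_pow_eq_one hk')
        (((Nat.coprime_primes (Fact.out : q.Prime) r.2).mpr hr.symm).pow_left k)
    have hd : Disjoint (Cfsg.pCoreOf q N) (Cfsg.pCoreOf (r : ℕ) M) :=
      IsPGroup.disjoint_of_ne _ _ hr.symm _ _ (LocalStructure.pCoreOf_isPGroup N)
        (LocalStructure.pCoreOf_isPGroup M)
    have hbA : ∀ a ∈ Cfsg.pCoreOf (r : ℕ) M ⊓ N, Commute a x := fun a ha => by
      refine commute_elem_of_disjoint hd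
        (mul_mem (conj_mem_pCoreOf (mem_inf.mp ha).2 hxR) (inv_mem hxR)) ?_
      rw [show a * x * a⁻¹ * x⁻¹ = a * (x * a⁻¹ * x⁻¹) by group]
      exact mul_mem (mem_inf.mp ha).1 (conj_mem_pCoreOf hxM (inv_mem (mem_inf.mp ha).1))
    exact (LocalEven48.commute_of_commute_fixed (P := Cfsg.pCoreOf (r : ℕ) M)
      (A := Cfsg.pCoreOf (r : ℕ) M ⊓ N) (b := x) (LocalStructure.pCoreOf_isPGroup M)
      ((LocalStructure.pCoreOf_isPGroup M).to_le inf_le_left)
      (inf_le_left.trans le_normalizer) (LocalStructure.le_normalizer_pCoreOf M hxM) hco hbA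
      (fun z hz hza => (hbA z (mem_inf.mpr ⟨hz, hfix r r.2 z hz hza⟩)).symm) y hy).symm
  -- `x` centralizes the layer
  have hW : ∀ e ∈ layerOf' M, Commute x e := by
    intro e he
    set W := ((Cfsg.pCoreOf q N).subgroupOf M).subgroupOf (Cfsg.layer M) with hWdef
    haveI : W.Normal := ⟨fun w hw g => by
      rw [hWdef, mem_subgroupOf, mem_subgroupOf] at hw ⊢
      exact conj_mem_pCoreOf (hEN ⟨g.1, g.2, rfl⟩) hw⟩
    have hWp : IsPGroup q W :=
      ((LocalStructure.pCoreOf_isPGroup N).comap_of_injective M.subtype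
        M.subtype_injective).comap_of_injective (Cfsg.layer M).subtype
        (Cfsg.layer M).subtype_injective
    have hWsn : (W.map (Cfsg.layer M).subtype).IsSubnormal :=
      (‹W.Normal›.isSubnormal).trans' ((Components.layer_normal (G := M)).isSubnormal)
    have hWle : (W.map (Cfsg.layer M).subtype).map M.subtype ≤ Cfsg.pCoreOf q M :=
      map_mono (LocalStructure.le_pCore_of_isSubnormal hWsn (hWp.map _))
    rw [hq] at hWle
    obtain ⟨e', he', rfl⟩ := he
    have hconj : x * (e' : G) * x⁻¹ ∈ layerOf' M :=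
      (mem_normalizer_iff.mp ((le_normalizer.trans
        (Components.normalizer_le_normalizer_map_subtype M _)) hxM) _).mp ⟨e', he', rfl⟩
    have hcE : x * (e' : G) * x⁻¹ * (e' : G)⁻¹ ∈ layerOf' M :=
      mul_mem hconj (inv_mem ⟨e', he', rfl⟩)
    have hcR : x * (e' : G) * x⁻¹ * (e' : G)⁻¹ ∈ Cfsg.pCoreOf q N := by
      rw [show x * (e' : G) * x⁻¹ * (e' : G)⁻¹ = x * ((e' : G) * x⁻¹ * (e' : G)⁻¹) by group]
      exact mul_mem hxR (conj_mem_pCoreOf (hEN ⟨e', he', rfl⟩) (inv_mem hxR))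
    obtain ⟨w, hw, hwe⟩ := hcE
    have h1 : x * (e' : G) * x⁻¹ * (e' : G)⁻¹ = 1 := by
      refine mem_bot.mp (hWle ⟨w, ⟨⟨w, hw⟩, ?_, rfl⟩, hwe⟩)
      show (w : G) ∈ Cfsg.pCoreOf q N
      have hwe' : (w : G) = _ := hwe
      rw [hwe']; exact hcR
    show x * (e' : G) = (e' : G) * x
    calc x * (e' : G) = x * (e' : G) * x⁻¹ * (e' : G)⁻¹ * ((e' : G) * x) := by group
      _ = _ := by rw [h1, one_mul]
  -- hence `x ∈ F(M)`
  have hxF : x ∈ fittingOf M := by
    refine ⟨⟨x, hxM⟩, Components.centralizer_generalizedFitting_le ?_, rfl⟩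
    have hFle : fittingOf M ≤ centralizer {x} := by
      rw [fittingOf_eq_iSup]
      exact iSup_le fun r z hz => mem_centralizer_singleton_iff.mpr (hF r z hz).eq
    have hle : (Cfsg.generalizedFittingSubgroup M).map M.subtype ≤ centralizer {x} := by
      rw [fstar_eq]
      exact sup_le (fun e he => mem_centralizer_singleton_iff.mpr (hW e he).eq.symm) hFle
    exact mem_centralizer_iff.mpr fun z hz =>
      Subtype.ext (mem_centralizer_singleton_iff.mp (hle ⟨z, hz, rfl⟩))
  have := mem_pCoreOf_of_mem_fittingOf M hxF hk'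
  rwa [hq] at this

/-- For `q` among at least two primes of `F(M)`, `O_q(N) ≤ M`. -/
theorem pCoreOf_le_of_two (hM : IsCoatom M) (h : Cfsg.leadsTo M N) {q r : ℕ} [Fact q.Prime]
    [Fact r.Prime] (hqr : q ≠ r) (hq : Cfsg.pCoreOf q M ≠ ⊥) (hr : Cfsg.pCoreOf r M ≠ ⊥) :
    Cfsg.pCoreOf q N ≤ M := by
  obtain ⟨-, hZ, -, -⟩ := leadsTo_facts h
  set Z := coreCenter q M
  set P := Cfsg.pCoreOf q N ⊔ Z with hPdef
  have hP : IsPGroup q P := (LocalStructure.pCoreOf_isPGroup N).to_sup_of_normal_left'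
    ((LocalStructure.pCoreOf_isPGroup M).to_le inf_le_left)
    ((hZ q Fact.out).trans (LocalStructure.le_normalizer_pCoreOf N))
  have hd : Disjoint P (coreCenter r M) :=
    IsPGroup.disjoint_of_ne _ _ hqr _ _ hP ((LocalStructure.pCoreOf_isPGroup M).to_le inf_le_left)
  have hPM : P ≤ centralizer (coreCenter r M : Set G) := by
    intro y hy
    refine mem_centralizer_iff.mpr fun z hz => ?_
    have hzP : z ∈ normalizer (P : Set G) :=
      LocalEven48.le_normalizer_sup (B := coreCenter r M)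
        ((hZ r Fact.out).trans (LocalStructure.le_normalizer_pCoreOf N))
        ((coreCenter_le M r).trans (le_normalizer_coreCenter M q)) hz
    have hbA : ∀ a ∈ P ⊓ M, Commute a z := fun a ha => by
      refine commute_elem_of_disjoint hd ?_
        (mul_mem (conj_mem_coreCenter (mem_inf.mp ha).2 hz) (inv_mem hz))
      rw [show a * z * a⁻¹ * z⁻¹ = a * (z * a⁻¹ * z⁻¹) by group]
      exact mul_mem (mem_inf.mp ha).1 ((mem_normalizer_iff.mp hzP _).mp (inv_mem (mem_inf.mp ha).1))
    have hco : (orderOf z).Coprime q := by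
      obtain ⟨k, hk⟩ := ((LocalStructure.pCoreOf_isPGroup M).to_le inf_le_left :
        IsPGroup r (coreCenter r M)) ⟨z, hz⟩
      exact Nat.Coprime.coprime_dvd_left
        (orderOf_dvd_of_pow_eq_one (by simpa using congrArg Subtype.val hk))
        (((Nat.coprime_primes (Fact.out : r.Prime) (Fact.out : q.Prime)).mpr hqr.symm).pow_left k)
    refine (LocalEven48.commute_of_commute_fixed (P := P) (A := P ⊓ M) (b := z) hP
      (hP.to_le inf_le_left) (inf_le_left.trans le_normalizer) hzP hco hbA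
      (fun w hw hwa => (hbA w (mem_inf.mpr ⟨hw, ?_⟩)).symm) y hy).eq
    refine centralizer_coreCenter_le hM hq (mem_centralizer_iff.mpr fun u hu => ?_)
    exact (hwa u (mem_inf.mpr ⟨mem_sup_right hu, coreCenter_le M q hu⟩)).eq
  exact le_sup_left.trans (hPM.trans (centralizer_coreCenter_le hM hr))

end CfsgLib.BenderMethod
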