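import Cfsg.Agent.BenderMethod.Basic

/-!
# Bender's method: the symmetric case `M ⇝ N`, `N ⇝ M`
-/

set_option autoImplicit false
set_option linter.unusedSectionVars false
set_option linter.style.haveILetI false

open Subgroup

namespace CfsgLib.BenderMethod

open CfsgLib.Signalizer

variable {G : Type*} [Group G] [Finite G] {M N : Subgroup G}

/-- A perfect subgroup whose elements of order prime to `p` centralize `P` centralizes `P`. -/
theorem le_centralizer_of_perfect {p : ℕ} [Fact p.Prime] {L : Subgroup G} (hL : ⁅L, L⁆ = L)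
    {P : Subgroup G} (h : ∀ l ∈ L, (orderOf l).Coprime p → l ∈ centralizer (P : Set G)) :
    L ≤ centralizer (P : Set G) := by
  have hle : LocalStructure.pResOf p L ≤ centralizer (P : Set G) :=
    LocalStructure.pResOf_le_of_forall h
  refine le_trans ?_ hle
  set R := (LocalStructure.pResOf p L).subgroupOf L
  haveI : R.Normal := (normal_subgroupOf_iff_le_normalizer (LocalStructure.pResOf_le L)).mpr
    (le_normalizer.trans (LocalStructure.normalizer_le_normalizer_pResOf L))
  have hq : IsPGroup p (L ⧸ R) := by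
    intro x
    obtain ⟨x, rfl⟩ := QuotientGroup.mk_surjective x
    obtain ⟨k, hk⟩ := LocalStructure.exists_pow_mem_pResOf (p := p) x.2
    refine ⟨k, ?_⟩
    rw [← QuotientGroup.mk_pow, QuotientGroup.eq_one_iff, mem_subgroupOf]
    simpa using hk
  haveI := hq.isNilpotent
  have hc : _root_.commutator L = ⊤ := by
    apply map_injective L.subtype_injective
    rw [map_subtype_commutator, hL, ← MonoidHom.range_eq_map, range_subtype]
  have hQ : _root_.commutator (L ⧸ R) = ⊤ := by
    have h1 := congrArg (Subgroup.map (QuotientGroup.mk' R)) hc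
    rw [map_top_of_surjective _ (QuotientGroup.mk'_surjective R)] at h1
    rw [← h1, commutator_def, commutator_def, map_commutator,
      map_top_of_surjective _ (QuotientGroup.mk'_surjective R)]
  have hsub : Subsingleton (L ⧸ R) := by
    by_contra h
    haveI : Nontrivial (L ⧸ R) := not_subsingleton_iff_nontrivial.mp h
    exact (Group.IsSolvable.commutator_lt_top_of_nontrivial (L ⧸ R)).ne hQ
  intro l hl
  have hl1 : (QuotientGroup.mk ⟨l, hl⟩ : L ⧸ R) = 1 := Subsingleton.elim _ _
  rw [QuotientGroup.eq_one_iff] at hl1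
  exact hl1

/-- A component of `M` is a component of `N` when each layer lies in the other subgroup and
`F(N)` is a `p`-group containing in `M` its centralizer of its intersection with `M`. -/
theorem layer_map_le_of_pGroup {p : ℕ} [Fact p.Prime] (h1 : layerOf' M ≤ N) (h2 : layerOf' N ≤ M)
    (hFN : fittingOf N ≤ Cfsg.pCoreOf p N)
    (hfix : ∀ y ∈ Cfsg.pCoreOf p N, (∀ a ∈ Cfsg.pCoreOf p N ⊓ M, Commute a y) → y ∈ M) :
    layerOf' M ≤ layerOf' N := by
  rw [layerOf', Subgroup.map_le_iff_le_comap]
  refine sSup_le fun L hL => ?_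
  have hLN : L.map M.subtype ≤ N := (map_mono (Components.IsComponent.le_layer hL)).trans h1
  set EN := layerOf' N with hEN
  set W := (Cfsg.pCoreOf p N).subgroupOf M with hWdef
  set X := N.subgroupOf M
  have hLX : L ≤ X := fun l hl => hLN ⟨l, hl, rfl⟩
  have hnE : X ≤ normalizer ((EN.subgroupOf M : Subgroup M) : Set M) := fun x hx =>
    mem_normalizer_iff.mpr fun z => (mem_normalizer_iff.mp
      ((Components.normalizer_le_normalizer_map_subtype N _) (le_normalizer hx)) z : _)
  have hnW : X ≤ normalizer (W : Set M) := fun x hx =>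
    mem_normalizer_iff.mpr fun z => (mem_normalizer_iff.mp
      (LocalStructure.le_normalizer_pCoreOf N hx) z : _)
  rcases Components.IsComponent.le_or_commutator_eq_bot_of_le_normalizer hL hLX
      (fun z hz => map_subtype_le (Cfsg.layer N) hz : EN.subgroupOf M ≤ X) hnE with h | h
  · -- `L` lies in `E(N)`
    intro l hl
    set φ : Cfsg.layer N →* M :=
      (N.subtype.comp (Cfsg.layer N).subtype).codRestrict M fun x => h2 ⟨x.1, x.2, rfl⟩
    have hinj : Function.Injective φ := fun a b hab =>
      Subtype.ext (Subtype.ext (congrArg (fun z : M => (z : G)) hab))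
    have hr : L ≤ φ.range := fun l' hl' => by
      obtain ⟨n, hn, hne⟩ := h hl'
      exact ⟨⟨n, hn⟩, Subtype.ext hne⟩
    have hc : Cfsg.IsComponent (L.comap φ) :=
      ⟨hL.1.comap φ, Components.isQuasisimple_congr
        ((MulEquiv.subgroupCongr (map_comap_eq_self hr)).symm.trans
          ((L.comap φ).equivMapOfInjective φ hinj).symm) hL.2⟩
    have hc' := (Components.isComponent_map_subtype
      ((Components.layer_normal (G := N)).isSubnormal) (L.comap φ)).mp hc
    obtain ⟨x, hx⟩ := hr hl
    exact ⟨x.1, Components.IsComponent.le_layer hc' ⟨x, show φ x ∈ L by rw [hx]; exact hl, rfl⟩,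
      congrArg Subtype.val hx⟩
  · -- otherwise `L` centralizes `F*(N)`
    exfalso
    haveI : Group.IsNilpotent W :=
      ((LocalStructure.pCoreOf_isPGroup (p := p) N).comap_of_injective M.subtype
        M.subtype_injective).isNilpotent
    have hF := Components.IsComponent.commutator_eq_bot_of_isSolvable hL
      (inferInstance : Group.IsSolvable W) (hLX.trans hnW)
    set L' := L.map M.subtype with hL'
    have hperf : ⁅L', L'⁆ = L' := by
      rw [hL', ← map_commutator, Components.IsComponent.commutator_eq_self hL]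
    have hP : L' ≤ centralizer (Cfsg.pCoreOf p N : Set G) := by
      refine le_centralizer_of_perfect (p := p) hperf fun l hl hco => mem_centralizer_iff.mpr fun y hy => ?_
      obtain ⟨l', hl', rfl⟩ := hl
      have hbA : ∀ a ∈ Cfsg.pCoreOf p N ⊓ M, Commute a (l' : G) := fun a ha => by
        have := mem_centralizer_iff.mp (commutator_eq_bot_iff_le_centralizer.mp hF hl')
          ⟨a, (mem_inf.mp ha).2⟩ (mem_inf.mp ha).1
        exact congrArg Subtype.val this
      exact (LocalEven48.commute_of_commute_fixed (p := p) (P := Cfsg.pCoreOf p N)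
        (A := Cfsg.pCoreOf p N ⊓ M) (LocalStructure.pCoreOf_isPGroup N)
        ((LocalStructure.pCoreOf_isPGroup N).to_le inf_le_left)
        (inf_le_left.trans le_normalizer)
        (LocalStructure.le_normalizer_pCoreOf N (hLN ⟨l', hl', rfl⟩)) hco hbA
        (fun z hz hza => (hbA z (mem_inf.mpr ⟨hz, hfix z hz hza⟩)).symm) y hy).eq.symm
    have hle : L ≤ (fittingOf N).subgroupOf M := by
      intro l hl
      refine ⟨⟨l, hLN ⟨l, hl, rfl⟩⟩, Components.centralizer_generalizedFitting_le ?_, rfl⟩
      have hE' : Cfsg.layer N ≤ centralizer {(⟨l, hLN ⟨l, hl, rfl⟩⟩ : N)} := fun z hz =>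
        mem_centralizer_singleton_iff.mpr (Subtype.ext (congrArg Subtype.val
          (mem_centralizer_iff.mp (commutator_eq_bot_iff_le_centralizer.mp h hl)
            ⟨z, h2 ⟨z, hz, rfl⟩⟩ ⟨z, hz, rfl⟩) :))
      have hF' : Cfsg.fittingSubgroup N ≤ centralizer {(⟨l, hLN ⟨l, hl, rfl⟩⟩ : N)} := fun z hz =>
        mem_centralizer_singleton_iff.mpr (Subtype.ext
          (mem_centralizer_iff.mp (hP ⟨l, hl, rfl⟩) z (hFN ⟨z, hz, rfl⟩)))
      exact mem_centralizer_iff.mpr fun z hz =>
        mem_centralizer_singleton_iff.mp (sup_le hE' hF' hz)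
    have hsol : Group.IsSolvable ((fittingOf N).subgroupOf M) := by
      have hpg : IsPGroup p ((fittingOf N).subgroupOf M) :=
        ((LocalStructure.pCoreOf_isPGroup N).to_le hFN).comap_of_injective M.subtype
          M.subtype_injective
      haveI := hpg.isNilpotent
      infer_instance
    exact Components.IsComponent.not_isSolvable hL (Components.isSolvable_mono hsol hle)

/-- A prime of `F(N)` is a prime of `F(M)`. -/
theorem pCoreOf_ne_bot_of_both [IsSimpleGroup G] (hMN : Cfsg.leadsTo M N)
    (hNM : Cfsg.leadsTo N M) {q : ℕ} [Fact q.Prime] (h : Cfsg.pCoreOf q N ≠ ⊥) :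
    Cfsg.pCoreOf q M ≠ ⊥ := fun hq => coreCenter_ne_bot h (le_bot_iff.mp (by
  rw [← pCoreOf_inf_eq_bot hMN hq]
  exact le_inf inf_le_left ((leadsTo_facts hNM).2.1 q Fact.out)))

/-- **Bender's uniqueness theorem**, the symmetric case. -/
theorem symmetric [IsSimpleGroup G] (hM : IsCoatom M) (hN : IsCoatom N)
    (hMN : Cfsg.leadsTo M N) (hNM : Cfsg.leadsTo N M) :
    M = N ∨ ∃ p : ℕ, p.Prime ∧ IsPGroup p (Cfsg.generalizedFittingSubgroup M) ∧
      IsPGroup p (Cfsg.generalizedFittingSubgroup N) := by
  refine or_iff_not_imp_left.mpr fun hne => ?_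
  obtain ⟨hEM, -, ⟨p, hp, hpM⟩, hfixM⟩ := leadsTo_facts hMN
  obtain ⟨hEN, -, -, hfixN⟩ := leadsTo_facts hNM
  haveI := Fact.mk hp
  by_cases htwo : ∃ r : ℕ, r.Prime ∧ r ≠ p ∧ Cfsg.pCoreOf r M ≠ ⊥
  · -- at least two primes: each Fitting subgroup lies in the other subgroup
    obtain ⟨r, hr, hrp, hrM⟩ := htwo
    haveI := Fact.mk hr
    have key : ∀ {A B : Subgroup G}, IsCoatom A → Cfsg.leadsTo A B → Cfsg.leadsTo B A →
        Cfsg.pCoreOf p A ≠ ⊥ → Cfsg.pCoreOf r A ≠ ⊥ → fittingOf B ≤ A := by
      intro A B hA hAB hBA hpA hrA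
      rw [fittingOf_eq_iSup]
      refine iSup_le fun q => ?_
      haveI := Fact.mk q.2
      by_cases hq : Cfsg.pCoreOf (q : ℕ) B = ⊥
      · rw [hq]; exact bot_le
      have hqA := pCoreOf_ne_bot_of_both hAB hBA hq
      by_cases hqp : (q : ℕ) = p
      · exact pCoreOf_le_of_two hA hAB (r := r) (hqp ▸ hrp.symm) hqA hrA
      · exact pCoreOf_le_of_two hA hAB (r := p) hqp hqA hpA
    have hFN := key hM hMN hNM hpM hrM
    have hFM := key hN hNM hMN (pCoreOf_ne_bot_of_both hNM hMN hpM)
      (pCoreOf_ne_bot_of_both hNM hMN hrM)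
    exact bender_maximal hM hN hne (by rw [fstar_eq]; exact sup_le hEM hFM)
      (by rw [fstar_eq]; exact sup_le hEN hFN)
  · -- one prime: there are no components
    simp only [not_exists, not_and, not_not] at htwo
    have hMp : ∀ {A : Subgroup G}, (∀ q : ℕ, q.Prime → q ≠ p → Cfsg.pCoreOf q A = ⊥) →
        fittingOf A ≤ Cfsg.pCoreOf p A := by
      intro A h
      rw [fittingOf_eq_iSup]
      refine iSup_le fun q => ?_
      by_cases hq : (q : ℕ) = p
      · rw [hq]
      · rw [h q q.2 hq]; exact bot_le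
    have hN' : ∀ q : ℕ, q.Prime → q ≠ p → Cfsg.pCoreOf q N = ⊥ := by
      intro q hq hqp
      haveI := Fact.mk hq
      by_contra h
      exact pCoreOf_ne_bot_of_both hMN hNM h (htwo q hq hqp)
    have heq : layerOf' M = layerOf' N := le_antisymm
      (layer_map_le_of_pGroup hEM hEN (hMp hN') (hfixN p hp))
      (layer_map_le_of_pGroup hEN hEM (hMp htwo) (hfixM p hp))
    have hE0 : layerOf' M = ⊥ := eq_bot_of_normalized_by_two hM hN hne (map_subtype_le _)
      (le_normalizer.trans (Components.normalizer_le_normalizer_map_subtype M _))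
      (heq ▸ le_normalizer.trans (Components.normalizer_le_normalizer_map_subtype N _))
    have hpg : ∀ {A : Subgroup G}, layerOf' A = ⊥ → fittingOf A ≤ Cfsg.pCoreOf p A →
        IsPGroup p (Cfsg.generalizedFittingSubgroup A) := by
      intro A hA hF
      have h : IsPGroup p ((Cfsg.generalizedFittingSubgroup A).map A.subtype : Subgroup G) := by
        rw [fstar_eq, hA, bot_sup_eq]
        exact (LocalStructure.pCoreOf_isPGroup A).to_le hF
      exact h.of_equiv
        ((Cfsg.generalizedFittingSubgroup A).equivMapOfInjective A.subtype A.subtype_injective).symm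
    exact ⟨p, hp, hpg hE0 (hMp htwo), hpg (heq ▸ hE0) (hMp hN')⟩

end CfsgLib.BenderMethod
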